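import Mathlib
import Groth.Agent.Lib.Helper7.RelFrob

set_option autoImplicit false
open scoped TensorProduct

namespace Groth.Agent.H8.RelFrob

universe u₁ u₂ u₃ u₄

section Abstract

variable (p : ℕ) [hp : Fact p.Prime]
  (R : Type u₁) (S : Type u₂) (R' : Type u₃) (S' : Type u₄)
  [CommRing R] [CommRing S] [CommRing R'] [CommRing S']
  [Algebra R S] [Algebra R R'] [Algebra R' S'] [Algebra S S'] [Algebra R S']
  [IsScalarTower R S S'] [IsScalarTower R R' S']

/-- Frobenius is additive when `p = 0`. -/
theorem add_pow_of_natCast_eq_zero {T : Type*} [CommRing T] (hT : ((p : ℕ) : T) = 0) (x y : T) :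
    (x + y) ^ p = x ^ p + y ^ p := by
  obtain ⟨r, hr⟩ := (Commute.all x y).exists_add_pow_prime_eq hp.out
  rw [hr, hT, zero_mul, zero_mul, zero_mul, add_zero]

/-- Key abstract step: in characteristic `p`, a commutative square `R → S`, `R → R'`, `S → S'`,
`R' → S'` whose vertical maps are étale and whose horizontal maps are "`p`-th root isomorphisms"
(compatibly) is a pushout square. -/
theorem isPushout_of_etale_of_frobenius_factor
    [Algebra.Etale R R'] [Algebra.Etale S S']
    (hpS : ((p : ℕ) : S) = 0) (hpS' : ((p : ℕ) : S') = 0)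
    (ι : S →+* R) (ι' : S' →+* R')
    (h1 : ∀ s, algebraMap R S (ι s) = s ^ p)
    (h1' : ∀ s, algebraMap R' S' (ι' s) = s ^ p)
    (h2' : ∀ r, ι' (algebraMap R' S' r) = r ^ p)
    (hc : ∀ s, ι' (algebraMap S S' s) = algebraMap R R' (ι s)) :
    Algebra.IsPushout R S R' S' := by
  -- the tensor product and its map to `S'`
  let θ : S ⊗[R] R' →ₐ[R] S' :=
    Algebra.TensorProduct.productMap (IsScalarTower.toAlgHom R S S') (IsScalarTower.toAlgHom R R' S')
  have hθ : ∀ (s : S) (r : R'), θ (s ⊗ₜ[R] r) = algebraMap S S' s * algebraMap R' S' r := by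
    intro s r
    simp [θ]
  letI algT : Algebra (S ⊗[R] R') S' := θ.toRingHom.toAlgebra
  have halg : ∀ x : S ⊗[R] R', algebraMap (S ⊗[R] R') S' x = θ x := fun _ => rfl
  haveI tow : IsScalarTower S (S ⊗[R] R') S' := by
    apply IsScalarTower.of_algebraMap_eq
    intro s
    rw [halg, Algebra.TensorProduct.algebraMap_apply, Algebra.algebraMap_self, RingHom.id_apply,
      hθ, map_one, mul_one]
  haveI : Algebra.Etale (S ⊗[R] R') S' := Algebra.Etale.of_restrictScalars S (S ⊗[R] R') S'
  have hpT : ((p : ℕ) : S ⊗[R] R') = 0 := by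
    have : ((p : ℕ) : S ⊗[R] R') = algebraMap S (S ⊗[R] R') ((p : ℕ) : S) := by
      rw [map_natCast]
    rw [this, hpS, map_zero]
  let ι'' : S' →+* S ⊗[R] R' :=
    (Algebra.TensorProduct.includeRight : R' →ₐ[R] S ⊗[R] R').toRingHom.comp ι'
  have hι'' : ∀ s', ι'' s' = (1 : S) ⊗ₜ[R] ι' s' := fun _ => rfl
  have key : Function.Bijective (algebraMap (S ⊗[R] R') S') := by
    refine Groth.Agent.H7.RelFrob.bijective_of_flat_unramified_of_frobenius_factor
      (S ⊗[R] R') S' p hpS' ι'' ?_ ?_
    · intro x
      rw [halg]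
      induction x using TensorProduct.induction_on with
      | zero => rw [map_zero, map_zero, zero_pow hp.out.ne_zero]
      | tmul s r =>
        rw [hθ, hι'', map_mul, hc, h2', Algebra.TensorProduct.tmul_pow, ← h1 s,
          Algebra.algebraMap_eq_smul_one (ι s), Algebra.algebraMap_eq_smul_one (ι s),
          TensorProduct.smul_tmul, smul_mul_assoc, one_mul]
      | add x y hx hy =>
        rw [map_add, map_add, hx, hy, add_pow_of_natCast_eq_zero p hpT]
    · intro s'
      rw [halg, hι'', hθ, map_one, one_mul, h1']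
  -- conclude
  let e : S ⊗[R] R' ≃ₐ[S] S' :=
    AlgEquiv.ofBijective
      { θ.toRingHom with
        commutes' := fun s => by
          change θ (algebraMap S (S ⊗[R] R') s) = _
          rw [Algebra.TensorProduct.algebraMap_apply, Algebra.algebraMap_self, RingHom.id_apply,
            hθ, map_one, mul_one] } key
  have he : ∀ x, e x = θ x := fun _ => rfl
  refine ⟨IsBaseChange.of_equiv e.toLinearEquiv ?_⟩
  intro r
  change e ((1 : S) ⊗ₜ[R] r) = _
  rw [he, hθ, map_one, one_mul]
  rfl

end Abstract

end Groth.Agent.H8.RelFrob
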