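import Mathlib
import Groth.Prelude.Def_FrobAlg
import Groth.Agent.Lib.Helper8.RelFrob.Abstract

set_option autoImplicit false
open scoped TensorProduct

namespace Groth.Agent.H8.RelFrob

universe u v w

open FrobAlg

section Basic

variable (p : ℕ) [hp : Fact p.Prime] (A : Type u) [CommRing A] [CharP A p]
  (B : Type v) [CommRing B] [Algebra A B] [CharP B p]

theorem relFrob_tmul (b : B) (a : Twist p A) : relFrob p A B (b ⊗ₜ[A] a) =
    b ^ p * algebraMap A B ((toTwist p A).symm a) := by
  simp only [relFrob, RingHom.coe_comp, Function.comp_apply, AlgHom.toRingHom_eq_coe,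
    RingHom.coe_coe, Algebra.TensorProduct.lift_tmul]
  rfl

theorem natCast_eq_zero : ((p : ℕ) : BaseChange p A B) = 0 := by
  have h1 : ((p : ℕ) : BaseChange p A B) = ((p : ℕ) : B) ⊗ₜ[A] (1 : Twist p A) := by
    rw [← map_natCast (Algebra.TensorProduct.includeLeft : B →ₐ[A] BaseChange p A B)]
    rfl
  rw [h1, CharP.cast_eq_zero, TensorProduct.zero_tmul]

theorem pow_eq (x : BaseChange p A B) :
    x ^ p = (relFrob p A B x) ⊗ₜ[A] (1 : Twist p A) := by
  have hp' : p ≠ 0 := hp.out.ne_zero
  induction x using TensorProduct.induction_on with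
  | zero => rw [zero_pow hp', map_zero, TensorProduct.zero_tmul]
  | tmul b a =>
    rw [relFrob_tmul, Algebra.TensorProduct.tmul_pow]
    obtain ⟨a', rfl⟩ := (toTwist p A).surjective a
    rw [RingEquiv.symm_apply_apply, mul_comm, ← Algebra.smul_def, TensorProduct.smul_tmul,
      Algebra.smul_def, mul_one, algebraMap_twist, map_pow]
  | add x y hx hy =>
    rw [add_pow_of_natCast_eq_zero p (natCast_eq_zero p A B), hx, hy, map_add,
      TensorProduct.add_tmul]

set_option linter.unusedVariables false in
/-- a copy of `B`, regarded as an algebra over the twisted copy of `A` and over the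
Frobenius twist of `B` (via the relative Frobenius) -/
@[nolint unusedArguments]
def BT (p : ℕ) (A : Type u) (B : Type v) : Type v := B

instance : CommRing (BT p A B) := inferInstanceAs (CommRing B)

/-- identity `B → BT` -/
def toBT : B ≃+* BT p A B := RingEquiv.refl B

noncomputable instance algTBT : Algebra (Twist p A) (BT p A B) :=
  ((algebraMap A B).comp ((toTwist p A).symm : Twist p A →+* A)).toAlgebra

noncomputable instance algWBT : Algebra (BaseChange p A B) (BT p A B) :=
  (relFrob p A B).toAlgebra

theorem algebraMap_W_BT (x : BaseChange p A B) :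
    algebraMap (BaseChange p A B) (BT p A B) x = relFrob p A B x := rfl

theorem algebraMap_T_BT (t : Twist p A) :
    algebraMap (Twist p A) (BT p A B) t = algebraMap A B ((toTwist p A).symm t) := rfl

instance towerBT : IsScalarTower (Twist p A) (BaseChange p A B) (BT p A B) := by
  apply IsScalarTower.of_algebraMap_eq
  intro t
  change algebraMap A B ((toTwist p A).symm t) = relFrob p A B ((1 : B) ⊗ₜ[A] t)
  rw [relFrob_tmul, one_pow, one_mul]

theorem natCast_BT_eq_zero : ((p : ℕ) : BT p A B) = 0 := CharP.cast_eq_zero B p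

/-- the `p`-th root map `B → B^{(p)}`, `b ↦ b ⊗ 1`. -/
noncomputable def iota : BT p A B →+* BaseChange p A B :=
  (Algebra.TensorProduct.includeLeftRingHom : B →+* BaseChange p A B)

theorem iota_apply (b : BT p A B) :
    iota p A B b = ((toBT p A B).symm b) ⊗ₜ[A] (1 : Twist p A) := rfl

theorem algebraMap_iota (b : BT p A B) :
    algebraMap (BaseChange p A B) (BT p A B) (iota p A B b) = b ^ p := by
  change relFrob p A B (((toBT p A B).symm b) ⊗ₜ[A] (1 : Twist p A)) = _
  rw [relFrob_tmul, map_one, map_one, mul_one]
  rfl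

theorem iota_algebraMap (x : BaseChange p A B) :
    iota p A B (algebraMap (BaseChange p A B) (BT p A B) x) = x ^ p :=
  (pow_eq p A B x).symm

end Basic

end Groth.Agent.H8.RelFrob
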