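import Mathlib
import Groth.Prelude.Def_FrobAlg
import Groth.Agent.Lib.Helper8.RelFrob.Basic

set_option autoImplicit false
open scoped TensorProduct

namespace Groth.Agent.H8.RelFrob

universe u v w

open FrobAlg Module

section Functorial

variable (p : ℕ) [hp : Fact p.Prime] (A : Type u) [CommRing A] [CharP A p]
  (P : Type v) [CommRing P] [Algebra A P] [CharP P p]
  (C : Type w) [CommRing C] [Algebra A C] [CharP C p]
  [Algebra P C] [IsScalarTower A P C]

/-- the map on Frobenius twists induced by an algebra map. -/
noncomputable def twistMap : BaseChange p A P →ₐ[A] BaseChange p A C :=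
  Algebra.TensorProduct.map (IsScalarTower.toAlgHom A P C) (AlgHom.id A (Twist p A))

theorem twistMap_tmul (x : P) (t : Twist p A) :
    twistMap p A P C (x ⊗ₜ[A] t) = algebraMap P C x ⊗ₜ[A] t := by
  simp [twistMap]

/-- naturality of the relative Frobenius. -/
theorem relFrob_twistMap (w : BaseChange p A P) :
    relFrob p A C (twistMap p A P C w) = algebraMap P C (relFrob p A P w) := by
  induction w using TensorProduct.induction_on with
  | zero => simp
  | tmul x t =>
    rw [twistMap_tmul, relFrob_tmul, relFrob_tmul, map_mul, map_pow,
      ← IsScalarTower.algebraMap_apply]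
  | add x y hx hy => rw [map_add, map_add, hx, hy, map_add, map_add]

end Functorial

section EtaleStep

variable (p : ℕ) [hp : Fact p.Prime] (A : Type u) [CommRing A] [CharP A p]
  (P : Type v) [CommRing P] [Algebra A P] [CharP P p]
  (C : Type w) [CommRing C] [Algebra A C] [CharP C p]
  [Algebra P C] [IsScalarTower A P C]

/-- the algebra structure `BT P → BT C`. -/
noncomputable local instance algBTBT : Algebra (BT p A P) (BT p A C) :=
  inferInstanceAs (Algebra P C)

variable [Algebra (BaseChange p A P) (BaseChange p A C)]
  (hmap : ∀ w, algebraMap (BaseChange p A P) (BaseChange p A C) w = twistMap p A P C w)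

include hmap in
theorem tower_P_WP_WC : IsScalarTower P (BaseChange p A P) (BaseChange p A C) := by
  apply IsScalarTower.of_algebraMap_eq
  intro x
  rw [Algebra.TensorProduct.algebraMap_apply, Algebra.TensorProduct.algebraMap_apply, hmap,
    twistMap_tmul, Algebra.algebraMap_self, RingHom.id_apply]

include hmap in
theorem isPushout_twist :
    haveI := tower_P_WP_WC p A P C hmap
    Algebra.IsPushout P C (BaseChange p A P) (BaseChange p A C) := by
  haveI := tower_P_WP_WC p A P C hmap
  refine Algebra.IsPushout.tensorProduct_tensorProduct A (Twist p A) P C ?_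
  ext t
  change algebraMap (BaseChange p A P) (BaseChange p A C) ((1 : P) ⊗ₜ[A] t) = (1 : C) ⊗ₜ[A] t
  rw [hmap, twistMap_tmul, map_one]

include hmap in
theorem etale_twist [Algebra.Etale P C] :
    Algebra.Etale (BaseChange p A P) (BaseChange p A C) := by
  haveI := tower_P_WP_WC p A P C hmap
  haveI h1 : Algebra.IsPushout P C (BaseChange p A P) (BaseChange p A C) :=
    isPushout_twist p A P C hmap
  haveI h2 : Algebra.IsPushout P (BaseChange p A P) C (BaseChange p A C) := h1.symm
  exact Algebra.Etale.of_equiv (Algebra.IsPushout.equiv P (BaseChange p A P) C (BaseChange p A C))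

include hmap in
/-- The étale step: if `C` is étale over `P`, then the relative Frobenius square of `P → C` is
cocartesian (with the comparison map made explicit). -/
theorem isBaseChange_of_etale' [Algebra.Etale P C] :
    ∃ (_ : Module (BaseChange p A P) (BT p A C))
      (_ : IsScalarTower (BaseChange p A P) (BaseChange p A C) (BT p A C))
      (f : BT p A P →ₗ[BaseChange p A P] BT p A C), IsBaseChange (BaseChange p A C) f ∧
        ∀ x, f x = toBT p A C (algebraMap P C ((toBT p A P).symm x)) := by
  haveI := etale_twist p A P C hmap
  haveI : Algebra.Etale (BT p A P) (BT p A C) := inferInstanceAs (Algebra.Etale P C)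
  letI alg : Algebra (BaseChange p A P) (BT p A C) :=
    ((algebraMap (BaseChange p A C) (BT p A C)).comp
      (algebraMap (BaseChange p A P) (BaseChange p A C))).toAlgebra
  haveI t1 : IsScalarTower (BaseChange p A P) (BaseChange p A C) (BT p A C) :=
    IsScalarTower.of_algebraMap_eq (fun _ => rfl)
  haveI t2 : IsScalarTower (BaseChange p A P) (BT p A P) (BT p A C) := by
    apply IsScalarTower.of_algebraMap_eq
    intro w
    change relFrob p A C (algebraMap (BaseChange p A P) (BaseChange p A C) w) =
      algebraMap P C (relFrob p A P w)
    rw [hmap, relFrob_twistMap]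
  have key : Algebra.IsPushout (BaseChange p A P) (BT p A P) (BaseChange p A C) (BT p A C) := by
    refine isPushout_of_etale_of_frobenius_factor p (BaseChange p A P) (BT p A P)
      (BaseChange p A C) (BT p A C) (natCast_BT_eq_zero p A P) (natCast_BT_eq_zero p A C)
      (iota p A P) (iota p A C) (algebraMap_iota p A P) (algebraMap_iota p A C)
      (iota_algebraMap p A C) ?_
    intro s
    rw [hmap, iota_apply, iota_apply, twistMap_tmul]
    rfl
  exact ⟨inferInstance, t1, _, key.symm.out, fun _ => rfl⟩

include hmap in
/-- The étale step: if `C` is étale over `P`, then the relative Frobenius square of `P → C` is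
cocartesian. -/
theorem isBaseChange_of_etale [Algebra.Etale P C] :
    ∃ (_ : Module (BaseChange p A P) (BT p A C))
      (_ : IsScalarTower (BaseChange p A P) (BaseChange p A C) (BT p A C))
      (f : BT p A P →ₗ[BaseChange p A P] BT p A C), IsBaseChange (BaseChange p A C) f := by
  obtain ⟨m, t, f, hf, -⟩ := isBaseChange_of_etale' p A P C hmap
  exact ⟨m, t, f, hf⟩

end EtaleStep

section Final

variable (p : ℕ) [hp : Fact p.Prime] (A : Type u) [CommRing A] [CharP A p]
  (P : Type v) [CommRing P] [Algebra A P] [CharP P p]
  (C : Type w) [CommRing C] [Algebra A C] [CharP C p]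
  [Algebra P C] [IsScalarTower A P C]

/-- If `C` is étale over `P`, a basis of `P` over its Frobenius twist induces a basis of `C` over
its Frobenius twist. -/
theorem exists_basis_of_etale [Algebra.Etale P C] {ι : Type*}
    (b : Basis ι (BaseChange p A P) (BT p A P)) :
    Nonempty (Basis ι (BaseChange p A C) (BT p A C)) := by
  letI : Algebra (BaseChange p A P) (BaseChange p A C) := (twistMap p A P C).toRingHom.toAlgebra
  obtain ⟨m, t, f, hf⟩ := isBaseChange_of_etale p A P C (fun _ => rfl)
  exact ⟨hf.basis b⟩

/-- Explicit version of `exists_basis_of_etale`. -/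
theorem exists_basis_of_etale' [Algebra.Etale P C] {ι : Type*}
    (b : Basis ι (BaseChange p A P) (BT p A P)) :
    ∃ β : Basis ι (BaseChange p A C) (BT p A C),
      ∀ i, β i = toBT p A C (algebraMap P C ((toBT p A P).symm (b i))) := by
  letI : Algebra (BaseChange p A P) (BaseChange p A C) := (twistMap p A P C).toRingHom.toAlgebra
  obtain ⟨m, t, f, hf, hfx⟩ := isBaseChange_of_etale' p A P C (fun _ => rfl)
  refine ⟨hf.basis b, fun i => ?_⟩
  rw [IsBaseChange.basis_apply, hfx]

end Final

end Groth.Agent.H8.RelFrob
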