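import Mathlib
import Groth.Prelude.Def_FrobAlg
import Groth.Agent.Lib.Helper8.RelFrob.Basic

set_option autoImplicit false
open scoped TensorProduct

namespace Groth.Agent.H8.RelFrob

universe u v w

open FrobAlg Module

section GenBasis

variable (p : ℕ) [hp : Fact p.Prime] (A : Type u) [CommRing A] [CharP A p]
  (B : Type v) [CommRing B] [Algebra A B] [CharP B p]

/-- the swap `T ⊗ B ≃ B ⊗ T`, linear over the twisted copy `T` of `A`. -/
noncomputable def commT :
    (Twist p A ⊗[A] B) ≃ₗ[Twist p A] BaseChange p A B :=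
  { (TensorProduct.comm A (Twist p A) B).toAddEquiv with
    map_smul' := by
      intro t x
      change (TensorProduct.comm A (Twist p A) B) (t • x) =
        t • (TensorProduct.comm A (Twist p A) B) x
      induction x using TensorProduct.induction_on with
      | zero => rw [smul_zero, map_zero, smul_zero]
      | tmul a b =>
        rw [TensorProduct.smul_tmul', TensorProduct.comm_tmul, TensorProduct.comm_tmul,
          Algebra.smul_def]
        change b ⊗ₜ[A] (t • a) = ((1 : B) ⊗ₜ[A] t) * (b ⊗ₜ[A] a)
        rw [Algebra.TensorProduct.tmul_mul_tmul, one_mul, smul_eq_mul]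
      | add x y hx hy => rw [smul_add, map_add, hx, hy, map_add, smul_add] }

theorem commT_tmul (t : Twist p A) (f : B) :
    commT p A B (t ⊗ₜ[A] f) = f ⊗ₜ[A] t := rfl

variable {ι : Type*} (b : Basis ι A B)

/-- a basis of `B` over `A` gives a basis of the Frobenius twist over the twisted base. -/
noncomputable def basisRight : Basis ι (Twist p A) (BaseChange p A B) :=
  (Algebra.TensorProduct.basis (Twist p A) b).map (commT p A B)

theorem basisRight_apply (i : ι) :
    basisRight p A B b i = (b i) ⊗ₜ[A] (1 : Twist p A) := by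
  rw [basisRight, Basis.map_apply, Algebra.TensorProduct.basis_apply, commT_tmul]

/-- auxiliary `A`-module structure on the copy `BT`. -/
noncomputable local instance modABT : Module A (BT p A B) :=
  inferInstanceAs (Module A B)

/-- auxiliary: the basis `b`, on the copy `BT`. -/
noncomputable def basisTwAux : Basis ι A (BT p A B) :=
  b.map (LinearEquiv.refl A B : B ≃ₗ[A] BT p A B)

/-- a basis of `B` over `A` gives a basis of the copy `BT` over the twisted base. -/
noncomputable def basisTw : Basis ι (Twist p A) (BT p A B) :=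
  Basis.mapCoeffs (M := BT p A B)
    (basisTwAux p A B b)
    (toTwist p A) (by
      intro c x
      rw [Algebra.smul_def, algebraMap_T_BT, RingEquiv.symm_apply_apply]
      exact (Algebra.smul_def (A := B) c x).symm)

theorem basisTw_apply (i : ι) :
    basisTw p A B b i = toBT p A B (b i) := by
  rw [basisTw, Basis.mapCoeffs_apply, basisTwAux, Basis.map_apply]
  rfl

end GenBasis

section Poly

variable (p : ℕ) [hp : Fact p.Prime] (A : Type u) [CommRing A] [CharP A p]
  (σ : Type w) [Fintype σ]

/-- the bijection `(e, m) ↦ p m + e`. -/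
noncomputable def tau : (Σ _ : (σ → Fin p), (σ →₀ ℕ)) ≃ (σ →₀ ℕ) where
  toFun x := p • x.2 + Finsupp.equivFunOnFinite.symm (fun i => ((x.1 i : Fin p) : ℕ))
  invFun n := ⟨fun i => ⟨n i % p, Nat.mod_lt _ hp.out.pos⟩,
    Finsupp.mapRange (fun k => k / p) (Nat.zero_div p) n⟩
  left_inv := by
    rintro ⟨e, m⟩
    have hlt : ∀ i, ((e i : Fin p) : ℕ) < p := fun i => (e i).2
    refine Sigma.ext ?_ (heq_of_eq ?_)
    · funext i
      apply Fin.ext
      simp only [Finsupp.coe_add, Finsupp.coe_smul, Pi.add_apply, Pi.smul_apply, smul_eq_mul,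
        Finsupp.coe_equivFunOnFinite_symm]
      rw [Nat.mul_add_mod, Nat.mod_eq_of_lt (hlt i)]
    · ext i
      simp only [Finsupp.mapRange_apply, Finsupp.coe_add, Finsupp.coe_smul, Pi.add_apply,
        Pi.smul_apply, smul_eq_mul, Finsupp.coe_equivFunOnFinite_symm]
      rw [Nat.mul_add_div hp.out.pos, Nat.div_eq_of_lt (hlt i), add_zero]
  right_inv := by
    intro n
    ext i
    simp only [Finsupp.coe_add, Finsupp.coe_smul, Pi.add_apply, Pi.smul_apply, smul_eq_mul,
      Finsupp.coe_equivFunOnFinite_symm, Finsupp.mapRange_apply]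
    exact Nat.div_add_mod _ _

theorem tau_apply (e : σ → Fin p) (m : σ →₀ ℕ) :
    tau p σ ⟨e, m⟩ = p • m + Finsupp.equivFunOnFinite.symm (fun i => ((e i : Fin p) : ℕ)) := rfl

/-- the monomial basis of the Frobenius twist of a polynomial ring, over the twisted base. -/
noncomputable def basisW :
    Basis (σ →₀ ℕ) (Twist p A) (BaseChange p A (MvPolynomial σ A)) :=
  basisRight p A (MvPolynomial σ A) (MvPolynomial.basisMonomials σ A)

theorem basisW_apply (m : σ →₀ ℕ) :
    basisW p A σ m = (MvPolynomial.monomial m (1 : A)) ⊗ₜ[A] (1 : Twist p A) := by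
  rw [basisW, basisRight_apply, MvPolynomial.coe_basisMonomials]

/-- the monomial basis of the polynomial ring over the twisted base. -/
noncomputable def basisBT :
    Basis (σ →₀ ℕ) (Twist p A) (BT p A (MvPolynomial σ A)) :=
  basisTw p A (MvPolynomial σ A) (MvPolynomial.basisMonomials σ A)

theorem basisBT_apply (m : σ →₀ ℕ) :
    basisBT p A σ m = toBT p A (MvPolynomial σ A) (MvPolynomial.monomial m (1 : A)) := by
  rw [basisBT, basisTw_apply, MvPolynomial.coe_basisMonomials]

/-- the candidate basis vectors `X^e`, `e ∈ [0,p)^σ`. -/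
noncomputable def vec (e : σ → Fin p) : BT p A (MvPolynomial σ A) :=
  toBT p A (MvPolynomial σ A) (MvPolynomial.monomial
    (Finsupp.equivFunOnFinite.symm (fun i => ((e i : Fin p) : ℕ))) (1 : A))

/-- the comparison map. -/
noncomputable def Psi : ((σ → Fin p) →₀ BaseChange p A (MvPolynomial σ A))
    →ₗ[BaseChange p A (MvPolynomial σ A)] BT p A (MvPolynomial σ A) :=
  Finsupp.linearCombination _ (vec p A σ)

theorem Psi_single (e : σ → Fin p) (m : σ →₀ ℕ) :
    Psi p A σ (Finsupp.single e (basisW p A σ m)) = basisBT p A σ (tau p σ ⟨e, m⟩) := by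
  rw [Psi, Finsupp.linearCombination_single, basisW_apply, basisBT_apply, tau_apply,
    Algebra.smul_def, algebraMap_W_BT, relFrob_tmul, MvPolynomial.monomial_pow, one_pow,
    map_one (toTwist p A).symm, map_one (algebraMap A (MvPolynomial σ A)), mul_one, vec]
  change (MvPolynomial.monomial (p • m) (1 : A)) * (MvPolynomial.monomial
    (Finsupp.equivFunOnFinite.symm (fun i => ((e i : Fin p) : ℕ))) (1 : A)) =
    MvPolynomial.monomial (p • m + Finsupp.equivFunOnFinite.symm (fun i => ((e i : Fin p) : ℕ)))
      (1 : A)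
  rw [MvPolynomial.monomial_mul, one_mul]

theorem Psi_bijective : Function.Bijective (Psi p A σ) := by
  let bE : Basis (Σ _ : (σ → Fin p), (σ →₀ ℕ)) (Twist p A)
      ((σ → Fin p) →₀ BaseChange p A (MvPolynomial σ A)) :=
    Finsupp.basis (fun _ : (σ → Fin p) => basisW p A σ)
  have hE : (Psi p A σ).restrictScalars (Twist p A) =
      (bE.equiv (basisBT p A σ) (tau p σ)).toLinearMap := by
    apply bE.ext
    rintro ⟨e, m⟩
    rw [LinearEquiv.coe_coe, Basis.equiv_apply, LinearMap.restrictScalars_apply]
    have : bE ⟨e, m⟩ = Finsupp.single e (basisW p A σ m) := by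
      simp [bE, Finsupp.coe_basis]
    rw [this, Psi_single]
  have : ⇑(Psi p A σ) = ⇑(bE.equiv (basisBT p A σ) (tau p σ)) := by
    funext x
    exact congrArg (fun f => f x) hE
  rw [this]
  exact (bE.equiv (basisBT p A σ) (tau p σ)).bijective

/-- The polynomial ring is free of rank `p ^ |σ|` over its Frobenius twist, with basis the monomials
with exponents `< p`. -/
noncomputable def basisPoly :
    Basis (σ → Fin p) (BaseChange p A (MvPolynomial σ A)) (BT p A (MvPolynomial σ A)) :=
  Basis.ofRepr (LinearEquiv.ofBijective (Psi p A σ) (Psi_bijective p A σ)).symm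

theorem basisPoly_apply (e : σ → Fin p) : basisPoly p A σ e = vec p A σ e := by
  rw [basisPoly, Basis.coe_ofRepr, LinearEquiv.symm_symm]
  change (LinearEquiv.ofBijective (Psi p A σ) (Psi_bijective p A σ)) (Finsupp.single e 1) = _
  rw [LinearEquiv.ofBijective_apply, Psi, Finsupp.linearCombination_single, one_smul]

end Poly

end Groth.Agent.H8.RelFrob
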