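import Mathlib
import Groth.Prelude.Def_FrobAlg
import Groth.Agent.Lib.Helper8.RelFrob.Poly
import Groth.Agent.Lib.Helper8.RelFrob.Etale

set_option autoImplicit false
open scoped TensorProduct

namespace Groth.Agent.H8.RelFrob

universe u v w

open FrobAlg Module

section StdSmooth

variable (p : ℕ) [hp : Fact p.Prime] (A : Type u) [CommRing A] [CharP A p]
  (C : Type w) [CommRing C] [Algebra A C] [CharP C p]

/-- A standard smooth algebra of relative dimension `n` is free of rank `p ^ n` over its
Frobenius twist. -/
theorem exists_basis_of_isStandardSmoothOfRelativeDimension (n : ℕ)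
    [Algebra.IsStandardSmoothOfRelativeDimension n A C] :
    Nonempty (Basis (Fin n → Fin p) (BaseChange p A C) (BT p A C)) := by
  obtain ⟨g, hg⟩ := Algebra.IsStandardSmoothOfRelativeDimension.exists_etale_mvPolynomial n A C
  letI algPC : Algebra (MvPolynomial (Fin n) A) C := g.toRingHom.toAlgebra
  haveI : IsScalarTower A (MvPolynomial (Fin n) A) C :=
    IsScalarTower.of_algebraMap_eq (fun a => (g.commutes a).symm)
  haveI : Algebra.Etale (MvPolynomial (Fin n) A) C := hg
  exact exists_basis_of_etale p A (MvPolynomial (Fin n) A) C (basisPoly p A (Fin n))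

theorem exists_basis_of_isStandardSmooth [Algebra.IsStandardSmooth A C] :
    ∃ n : ℕ, Algebra.IsStandardSmoothOfRelativeDimension n A C ∧
      Nonempty (Basis (Fin n → Fin p) (BaseChange p A C) (BT p A C)) := by
  obtain ⟨ι, σ, hσ, hι, ⟨P⟩⟩ := (inferInstance : Algebra.IsStandardSmooth A C).out
  have h : Algebra.IsStandardSmoothOfRelativeDimension P.dimension A C :=
    ⟨ι, σ, hσ, hι, P, rfl⟩
  exact ⟨P.dimension, h, exists_basis_of_isStandardSmoothOfRelativeDimension p A C P.dimension⟩

end StdSmooth

section FlatComp

variable (p : ℕ) [hp : Fact p.Prime] (A : Type u) [CommRing A] [CharP A p]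
  (B : Type v) [CommRing B] [Algebra A B] [CharP B p]
  (C : Type w) [CommRing C] [Algebra A C] [CharP C p]
  [Algebra B C] [IsScalarTower A B C]

/-- If `C` is flat over `B` and flat over its own Frobenius twist, it is flat over the Frobenius
twist of `B`. -/
theorem flat_comp [Module.Flat B C] (hC : Module.Flat (BaseChange p A C) (BT p A C))
    [Module (BaseChange p A B) C]
    (hsmul : ∀ (w : BaseChange p A B) (c : C), w • c = algebraMap B C (relFrob p A B w) * c) :
    Module.Flat (BaseChange p A B) C := by
  letI : Algebra (BaseChange p A B) (BaseChange p A C) := (twistMap p A B C).toRingHom.toAlgebra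
  have hmap : ∀ w, algebraMap (BaseChange p A B) (BaseChange p A C) w = twistMap p A B C w :=
    fun _ => rfl
  haveI := tower_P_WP_WC p A B C hmap
  have h1 : Algebra.IsPushout B C (BaseChange p A B) (BaseChange p A C) :=
    isPushout_twist p A B C hmap
  have h2 : Algebra.IsPushout B (BaseChange p A B) C (BaseChange p A C) := h1.symm
  haveI : Module.Flat (BaseChange p A B) (BaseChange p A C) :=
    Module.Flat.isBaseChange B (BaseChange p A B) C (BaseChange p A C) h2.out
  letI alg : Algebra (BaseChange p A B) (BT p A C) :=
    ((algebraMap (BaseChange p A C) (BT p A C)).comp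
      (algebraMap (BaseChange p A B) (BaseChange p A C))).toAlgebra
  haveI : IsScalarTower (BaseChange p A B) (BaseChange p A C) (BT p A C) :=
    IsScalarTower.of_algebraMap_eq (fun _ => rfl)
  haveI : Module.Flat (BaseChange p A B) (BT p A C) :=
    Module.Flat.trans (BaseChange p A B) (BaseChange p A C) (BT p A C)
  let e : BT p A C ≃ₗ[BaseChange p A B] C :=
    { (toBT p A C).symm.toAddEquiv with
      map_smul' := by
        intro w c
        change (toBT p A C).symm (w • c) = w • (toBT p A C).symm c
        rw [hsmul, Algebra.smul_def]
        change relFrob p A C (twistMap p A B C w) * _ = _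
        rw [relFrob_twistMap]
        rfl }
  exact Module.Flat.of_linearEquiv e.symm

end FlatComp

section Flat

variable (p : ℕ) [hp : Fact p.Prime] (A : Type u) [CommRing A] [CharP A p]
  (B : Type v) [CommRing B] [Algebra A B] [CharP B p]

/-- the localization of a ring of characteristic `p` has characteristic `p` when nontrivial. -/
theorem charP_of_algebra (C : Type w) [CommRing C] [Algebra B C] [Nontrivial C] : CharP C p := by
  have : ((p : ℕ) : C) = 0 := by
    rw [← map_natCast (algebraMap B C), CharP.cast_eq_zero, map_zero]
  exact (CharP.charP_iff_prime_eq_zero hp.out).mpr this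

/-- The relative Frobenius of a smooth algebra is flat. -/
theorem flat_of_smooth [Algebra.Smooth A B] : (relFrob p A B).Flat := by
  letI alg : Algebra (BaseChange p A B) B := (relFrob p A B).toAlgebra
  change Module.Flat (BaseChange p A B) B
  obtain ⟨s, hs, h⟩ := Algebra.Smooth.exists_span_eq_top_isStandardSmooth A B
  refine Module.flat_of_isLocalized_span (R := BaseChange p A B) (S := B) (M := B)
    s hs (fun r => Localization.Away r.1)
    (fun r => Algebra.linearMap B (Localization.Away r.1)) ?_
  rintro ⟨r, hr⟩
  haveI : Algebra.IsStandardSmooth A (Localization.Away r) := h r hr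
  change Module.Flat (BaseChange p A B) (Localization.Away r)
  rcases subsingleton_or_nontrivial (Localization.Away r) with hsub | hnt
  · haveI := Module.Free.of_subsingleton (BaseChange p A B) (Localization.Away r)
    infer_instance
  · haveI : CharP (Localization.Away r) p := charP_of_algebra p B (Localization.Away r)
    obtain ⟨n, hn, ⟨b⟩⟩ := exists_basis_of_isStandardSmooth p A (Localization.Away r)
    have hfree : Module.Free (BaseChange p A (Localization.Away r)) (BT p A (Localization.Away r)) :=
      Module.Free.of_basis b
    refine flat_comp p A B (Localization.Away r) inferInstance ?_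
    intro w c
    rw [Algebra.smul_def, IsScalarTower.algebraMap_apply (BaseChange p A B) B (Localization.Away r)]
    rfl

end Flat

end Groth.Agent.H8.RelFrob
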