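import Mathlib
import Groth.Prelude.Def_FrobAlg
import Groth.Agent.Lib.Helper8.RelFrob.Smooth

set_option autoImplicit false
open scoped TensorProduct

namespace Groth.Agent.H8.RelFrob

universe u v w

open FrobAlg Module

section Fin

variable (p : ℕ) [hp : Fact p.Prime] (A : Type u) [CommRing A] [CharP A p]
  (B : Type v) [CommRing B] [Algebra A B] [CharP B p]

instance isIntegral_BT : Algebra.IsIntegral (BaseChange p A B) (BT p A B) := by
  refine ⟨fun b => ?_⟩
  refine IsIntegral.of_pow hp.out.pos ?_
  rw [← algebraMap_iota]
  exact isIntegral_algebraMap

theorem finiteType_T_BT [Algebra.FiniteType A B] :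
    Algebra.FiniteType (Twist p A) (BT p A B) := by
  have h1 : (algebraMap A B).FiniteType := RingHom.finiteType_algebraMap.mpr inferInstance
  have h2 : ((toTwist p A).symm : Twist p A →+* A).FiniteType :=
    RingHom.FiniteType.of_surjective _ (toTwist p A).symm.surjective
  exact h1.comp h2

theorem finitePresentation_T_BT [Algebra.FinitePresentation A B] :
    Algebra.FinitePresentation (Twist p A) (BT p A B) := by
  have h1 : (algebraMap A B).FinitePresentation :=
    RingHom.finitePresentation_algebraMap.mpr inferInstance
  have h2 : ((toTwist p A).symm : Twist p A →+* A).FinitePresentation :=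
    RingHom.FinitePresentation.of_bijective (toTwist p A).symm.bijective
  exact h1.comp h2

/-- the swap as an algebra isomorphism over the twisted base. -/
noncomputable def commTAlg : (Twist p A ⊗[A] B) ≃ₐ[Twist p A] BaseChange p A B :=
  AlgEquiv.ofRingEquiv (f := (Algebra.TensorProduct.comm A (Twist p A) B).toRingEquiv)
    (fun t => by
      rw [Algebra.TensorProduct.algebraMap_apply]
      rfl)

instance finiteType_T_W [Algebra.FiniteType A B] :
    Algebra.FiniteType (Twist p A) (BaseChange p A B) :=
  Algebra.FiniteType.equiv inferInstance (commTAlg p A B)

theorem finiteType_W_BT [Algebra.FiniteType A B] :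
    Algebra.FiniteType (BaseChange p A B) (BT p A B) := by
  haveI := finiteType_T_BT p A B
  exact Algebra.FiniteType.of_restrictScalars_finiteType (Twist p A) (BaseChange p A B) (BT p A B)

theorem finite_W_BT [Algebra.FiniteType A B] :
    Module.Finite (BaseChange p A B) (BT p A B) := by
  haveI := finiteType_W_BT p A B
  exact Algebra.IsIntegral.finite

theorem finitePresentation_W_BT [Algebra.FinitePresentation A B] :
    Algebra.FinitePresentation (BaseChange p A B) (BT p A B) := by
  haveI := finitePresentation_T_BT p A B
  exact Algebra.FinitePresentation.of_restrict_scalars_finitePresentation (Twist p A)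
    (BaseChange p A B) (BT p A B)

theorem moduleFinitePresentation_W_BT [Algebra.FinitePresentation A B] :
    Module.FinitePresentation (BaseChange p A B) (BT p A B) := by
  haveI := finite_W_BT p A B
  haveI := finitePresentation_W_BT p A B
  exact Module.FinitePresentation.of_finite_of_finitePresentation _ _

theorem flat_W_BT [Algebra.Smooth A B] : Module.Flat (BaseChange p A B) (BT p A B) :=
  flat_of_smooth p A B

theorem projective_W_BT [Algebra.Smooth A B] :
    Module.Projective (BaseChange p A B) (BT p A B) := by
  haveI := flat_W_BT p A B
  haveI := moduleFinitePresentation_W_BT p A B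
  exact Module.Flat.projective_of_finitePresentation

end Fin

end Groth.Agent.H8.RelFrob
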