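import Mathlib

set_option autoImplicit false

namespace Groth.Agent.H8.RelFrob
open MvPolynomial

universe u

section LemmaK

variable {R : Type u} [CommRing R] {n : ℕ}

/-- if `w ᵥ* E = 0` and some `w i = 1`, then `det E = 0`. -/
lemma det_eq_zero_of_vecMul_eq_zero (E : Matrix (Fin n) (Fin n) R) (w : Fin n → R)
    (h : Matrix.vecMul w E = 0) (i₀ : Fin n) (hi₀ : w i₀ = 1) : E.det = 0 := by
  have h2 : Matrix.vecMul (Matrix.vecMul w E) E.adjugate = 0 := by
    rw [h, Matrix.zero_vecMul]
  rw [Matrix.vecMul_vecMul, Matrix.mul_adjugate, Matrix.vecMul_smul, Matrix.vecMul_one] at h2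
  have := congrFun h2 i₀
  simpa [hi₀] using this

/-- Determinant of a matrix whose `(i,j)` entry is a monomial of exponent `v i - ε_j`. -/
theorem coeff_det_monomial_rows (v : Fin n → (Fin n →₀ ℕ)) (c : Fin n → Fin n → R)
    (hc : ∀ i j, v i j = 0 → c i j = 0) (a : Fin n →₀ ℕ) :
    coeff a (Matrix.of fun i j : Fin n =>
        monomial (v i - Finsupp.single j 1) (c i j)).det =
      if (∑ i, v i = a + ∑ i : Fin n, Finsupp.single i 1) then (Matrix.of c).det else 0 := by
  classical
  rw [Matrix.det_apply, coeff_sum]
  set C : Prop := ∑ i, v i = a + ∑ i : Fin n, Finsupp.single i 1 with hC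
  have hterm : ∀ π : Equiv.Perm (Fin n),
      coeff a (Equiv.Perm.sign π • ∏ i, (Matrix.of fun i j : Fin n =>
        monomial (v i - Finsupp.single j 1) (c i j)) (π i) i) =
      Equiv.Perm.sign π • (if C then ∏ i, (Matrix.of c) (π i) i else 0) := by
    intro π
    have h1 : ∀ i, (Matrix.of fun i j : Fin n =>
        monomial (v i - Finsupp.single j 1) (c i j)) (π i) i =
        monomial (v (π i) - Finsupp.single i 1) (c (π i) i) := fun i => rfl
    rw [Finset.prod_congr rfl (fun i _ => h1 i), ← monomial_sum_prod]
    have h2 : ∀ (z : ℤˣ) (q : MvPolynomial (Fin n) R), coeff a (z • q) = z • coeff a q := by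
      intro z q
      rcases Int.units_eq_one_or z with rfl | rfl <;> simp
    rw [h2, coeff_monomial]
    congr 1
    by_cases h0 : ∃ i, v (π i) i = 0
    · obtain ⟨i, hi⟩ := h0
      have : ∏ i, c (π i) i = 0 :=
        Finset.prod_eq_zero (Finset.mem_univ i) (hc _ _ hi)
      change (if _ then ∏ i, c (π i) i else 0) = (if C then ∏ i, c (π i) i else 0)
      rw [this, ite_self, ite_self]
    · push Not at h0
      have h3 : ∑ i, (v (π i) - Finsupp.single i 1) +
          ∑ i : Fin n, Finsupp.single i 1 = ∑ i, v i := by
        rw [← Finset.sum_add_distrib, ← Equiv.sum_comp π v]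
        refine Finset.sum_congr rfl fun i _ => ?_
        apply tsub_add_cancel_of_le
        rw [Finsupp.single_le_iff]
        exact Nat.one_le_iff_ne_zero.2 (h0 i)
      have h4 : (∑ i, (v (π i) - Finsupp.single i 1) = a) ↔ C := by
        constructor
        · intro h; rw [hC, ← h3, h]
        · intro h
          have : ∑ i, (v (π i) - Finsupp.single i 1) +
            ∑ i : Fin n, Finsupp.single i 1 = a + ∑ i : Fin n, Finsupp.single i 1 := by
            rw [h3]; exact h
          exact add_right_cancel this
      simp only [h4]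
      rfl
  rw [Finset.sum_congr rfl (fun π _ => hterm π)]
  change _ = if C then _ else _
  by_cases hCC : C
  · simp only [if_pos hCC]
    rw [← Matrix.det_apply]
  · simp only [if_neg hCC, smul_zero, Finset.sum_const_zero]

end LemmaK

section LemmaJ

variable (p : ℕ) [hp : Fact p.Prime] (R : Type u) [CommRing R] [CharP R p] {n : ℕ}

/-- `μ = (p-1, …, p-1)` -/
noncomputable def muTop (n : ℕ) : Fin n →₀ ℕ := Finsupp.equivFunOnFinite.symm (fun _ => p - 1)

/-- the row map `(l, F) ↦ l X_i^{p-1} e_i + ∇F`. -/
noncomputable def rho (i : Fin n) :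
    (R × MvPolynomial (Fin n) R) →ₗ[R] (Fin n → MvPolynomial (Fin n) R) :=
  LinearMap.coprod
    (LinearMap.toSpanSingleton R (Fin n → MvPolynomial (Fin n) R) (Pi.single i (X i ^ (p - 1))))
    (LinearMap.pi (fun j => ((pderiv j : Derivation R (MvPolynomial (Fin n) R) _) :
      MvPolynomial (Fin n) R →ₗ[R] MvPolynomial (Fin n) R)))

lemma rho_apply (i j : Fin n) (l : R) (F : MvPolynomial (Fin n) R) :
    rho p R i (l, F) j = (if i = j then C l * X i ^ (p - 1) else 0) + pderiv j F := by
  simp only [rho, LinearMap.coprod_apply, LinearMap.toSpanSingleton_apply, Pi.add_apply,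
    Pi.smul_apply, LinearMap.pi_apply, Derivation.coeFn_coe, Pi.single_apply]
  congr 1
  by_cases h : i = j
  · subst h
    rw [if_pos rfl, if_pos rfl, smul_eq_C_mul]
  · rw [if_neg h, if_neg (Ne.symm h), smul_zero]

/-- the multilinear map `(l_i, F_i) ↦ coeff_a det (l_i X_i^{p-1} δ_ij + ∂_j F_i)`. -/
noncomputable def PhiJ (a : Fin n →₀ ℕ) :
    MultilinearMap R (fun _ : Fin n => R × MvPolynomial (Fin n) R) R :=
  (MvPolynomial.lcoeff R a).compMultilinearMap
    (((Matrix.detRowAlternating (n := Fin n)
      (R := MvPolynomial (Fin n) R)).toMultilinearMap.restrictScalars R).compLinearMap (rho p R))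

lemma PhiJ_apply (a : Fin n →₀ ℕ) (z : Fin n → R × MvPolynomial (Fin n) R) :
    PhiJ p R a z = coeff a (Matrix.of fun i j : Fin n => rho p R i (z i) j).det := rfl

/-- the multilinear map `(l_i, F_i) ↦ [a = μ] ∏ l_i`. -/
noncomputable def PsiJ (a : Fin n →₀ ℕ) :
    MultilinearMap R (fun _ : Fin n => R × MvPolynomial (Fin n) R) R :=
  (if a = muTop p n then (1 : R) else 0) •
    ((MultilinearMap.mkPiAlgebra R (Fin n) R).compLinearMap
      (fun _ => LinearMap.fst R R (MvPolynomial (Fin n) R)))

lemma PsiJ_apply (a : Fin n →₀ ℕ) (z : Fin n → R × MvPolynomial (Fin n) R) :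
    PsiJ p R a z = (if a = muTop p n then (1 : R) else 0) * ∏ i, (z i).1 := by
  rw [PsiJ, smul_apply, MultilinearMap.compLinearMap_apply,
    MultilinearMap.mkPiAlgebra_apply, smul_eq_mul]
  rfl

lemma sum_single_eq (q : ℕ) : (∑ i : Fin n, Finsupp.single i q) =
    Finsupp.equivFunOnFinite.symm (fun _ : Fin n => q) := by
  ext j
  simp [Finsupp.finsetSum_apply, Finsupp.single_apply]

lemma PhiJ_eq_PsiJ (a : Fin n →₀ ℕ) (ha : ∀ j, p ∣ a j + 1) : PhiJ p R a = PsiJ p R a := by
  classical
  apply Module.Basis.ext_multilinear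
    (fun _ => (Module.Basis.singleton Unit R).prod (basisMonomials (Fin n) R))
  intro u
  rw [PhiJ_apply, PsiJ_apply]
  -- uniform description of the rows
  let v : Fin n → (Fin n →₀ ℕ) := fun i => Sum.elim (fun _ => Finsupp.single i p) id (u i)
  let c : Fin n → Fin n → R := fun i j =>
    Sum.elim (fun _ => if i = j then (1 : R) else 0) (fun w => ((w j : ℕ) : R)) (u i)
  have hrows : (Matrix.of fun i j : Fin n => rho p R i
      (((Module.Basis.singleton Unit R).prod (basisMonomials (Fin n) R)) (u i)) j) =
      Matrix.of fun i j : Fin n => monomial (v i - Finsupp.single j 1) (c i j) := by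
    ext i j
    simp only [Matrix.of_apply]
    rcases hu : u i with x | w
    · have hz : ((Module.Basis.singleton Unit R).prod (basisMonomials (Fin n) R)) (Sum.inl x) =
          ((1 : R), (0 : MvPolynomial (Fin n) R)) := by
        ext <;> simp
      rw [hz, rho_apply, map_zero, add_zero, C_1, one_mul]
      simp only [v, c, hu, Sum.elim_inl]
      by_cases h : i = j
      · subst h
        rw [if_pos rfl, if_pos rfl, X_pow_eq_monomial, ← Finsupp.single_tsub]
      · rw [if_neg h, if_neg h, monomial_zero]
    · have hz : ((Module.Basis.singleton Unit R).prod (basisMonomials (Fin n) R)) (Sum.inr w) =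
          ((0 : R), monomial w (1 : R)) := by
        ext <;> simp
      rw [hz, rho_apply, C_0, zero_mul, ite_self, zero_add, pderiv_monomial, one_mul]
      simp only [v, c, hu, Sum.elim_inr, id]
  have hc : ∀ i j, v i j = 0 → c i j = 0 := by
    intro i j h
    simp only [v, c] at h ⊢
    rcases hu : u i with x | w
    · rw [hu] at h
      simp only [Sum.elim_inl, Finsupp.single_apply] at h ⊢
      by_cases hij : i = j
      · rw [if_pos hij] at h
        exact absurd h hp.out.ne_zero
      · rw [if_neg hij]
    · rw [hu] at h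
      simp only [Sum.elim_inr, id] at h ⊢
      rw [h, Nat.cast_zero]
  rw [hrows, coeff_det_monomial_rows v c hc a]
  by_cases hall : ∀ i, ∃ x, u i = Sum.inl x
  · -- all rows are diagonal rows
    have hv : ∀ i, v i = Finsupp.single i p := by
      intro i
      obtain ⟨x, hx⟩ := hall i
      simp only [v, hx, Sum.elim_inl]
    have hc1 : Matrix.of c = (1 : Matrix (Fin n) (Fin n) R) := by
      ext i j
      obtain ⟨x, hx⟩ := hall i
      simp only [Matrix.of_apply, c, hx, Sum.elim_inl, Matrix.one_apply]
    have hprod : ∏ i, (((Module.Basis.singleton Unit R).prod (basisMonomials (Fin n) R)) (u i)).1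
        = 1 := by
      apply Finset.prod_eq_one
      intro i _
      obtain ⟨x, hx⟩ := hall i
      rw [hx]
      simp
    rw [hprod, mul_one, hc1, Matrix.det_one, Finset.sum_congr rfl (fun i _ => hv i),
      sum_single_eq, sum_single_eq]
    have hiff : (Finsupp.equivFunOnFinite.symm (fun _ : Fin n => p) =
        a + Finsupp.equivFunOnFinite.symm (fun _ : Fin n => 1)) ↔ a = muTop p n := by
      have hp1 : 1 ≤ p := hp.out.one_le
      constructor
      · intro h
        ext j
        have := congrArg (fun s : Fin n →₀ ℕ => s j) h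
        simp only [Finsupp.coe_equivFunOnFinite_symm, Finsupp.add_apply] at this
        simp only [muTop, Finsupp.coe_equivFunOnFinite_symm]
        omega
      · intro h
        ext j
        rw [h]
        simp only [muTop, Finsupp.coe_equivFunOnFinite_symm, Finsupp.add_apply]
        omega
    simp only [hiff]
  · -- some row is a gradient row
    push Not at hall
    obtain ⟨i₀, hi₀⟩ := hall
    obtain ⟨w₀, hw₀⟩ : ∃ w, u i₀ = Sum.inr w := by
      rcases hu : u i₀ with x | w
      · exact absurd hu (hi₀ x)
      · exact ⟨w, rfl⟩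
    have hprod : ∏ i, (((Module.Basis.singleton Unit R).prod (basisMonomials (Fin n) R)) (u i)).1
        = 0 := by
      apply Finset.prod_eq_zero (Finset.mem_univ i₀)
      rw [hw₀]
      simp
    rw [hprod, mul_zero]
    split_ifs with hC
    · -- the determinant of `c` vanishes
      let w : Fin n → R := fun i => Sum.elim (fun _ => (0 : R)) (fun _ => 1) (u i)
      apply det_eq_zero_of_vecMul_eq_zero (Matrix.of c) w ?_ i₀ (by simp only [w, hw₀, Sum.elim_inr])
      funext j
      simp only [Matrix.vecMul, dotProduct, Matrix.of_apply, Pi.zero_apply]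
      have hwc : ∀ i, w i * c i j = ((v i j : ℕ) : R) := by
        intro i
        simp only [w, c, v]
        rcases hu : u i with x | y
        · simp only [Sum.elim_inl, zero_mul, Finsupp.single_apply]
          split_ifs
          · rw [CharP.cast_eq_zero]
          · rw [Nat.cast_zero]
        · simp only [Sum.elim_inr, one_mul, id]
      rw [Finset.sum_congr rfl (fun i _ => hwc i), ← Nat.cast_sum]
      have hsum : ∑ i, v i j = a j + 1 := by
        have := congrArg (fun s : Fin n →₀ ℕ => s j) hC
        simp only [Finsupp.finsetSum_apply, Finsupp.add_apply] at this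
        rw [this]
        congr 1
        simp [Finsupp.single_apply]
      rw [hsum]
      exact (CharP.cast_eq_zero_iff R p _).mpr (ha j)
    · rfl

/-- **Key coefficient computation.** For polynomials `F_i` over a ring of characteristic `p`, the
coefficient of `X^a` in `det (δ_ij X_i^{p-1} + ∂F_i/∂X_j)`, for `a ≡ (p-1,…,p-1) mod p`, is `1` if
`a = (p-1,…,p-1)` and `0` otherwise. -/
theorem coeff_det_diag_add_jacobian (F : Fin n → MvPolynomial (Fin n) R) (a : Fin n →₀ ℕ)
    (ha : ∀ j, p ∣ a j + 1) :
    coeff a (Matrix.of fun i j : Fin n =>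
      (if i = j then X i ^ (p - 1) else 0) + pderiv j (F i)).det =
      if a = muTop p n then 1 else 0 := by
  have h1 : (Matrix.of fun i j : Fin n =>
      (if i = j then X i ^ (p - 1) else 0) + pderiv j (F i)) =
      Matrix.of fun i j : Fin n => rho p R i ((1 : R), F i) j := by
    ext i j
    simp only [Matrix.of_apply, rho_apply, C_1, one_mul]
  rw [h1, ← PhiJ_apply p R a (fun i => ((1 : R), F i)), PhiJ_eq_PsiJ p R a ha, PsiJ_apply]
  simp

end LemmaJ

end Groth.Agent.H8.RelFrob
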