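import Mathlib
import Groth.Prelude.Def_FrobAlg
import Groth.Agent.Lib.Helper8.RelFrob.Fin

set_option autoImplicit false
open scoped TensorProduct

namespace Groth.Agent.H8.RelFrob

universe u v w

open FrobAlg Module

section Rank

variable (p : ℕ) [hp : Fact p.Prime] (A : Type u) [CommRing A] [CharP A p]
  (B : Type v) [CommRing B] [Algebra A B] [CharP B p]

/-- the prime of `B` corresponding to a prime of the Frobenius twist. -/
noncomputable def primeBelow (q : PrimeSpectrum (BaseChange p A B)) : PrimeSpectrum B :=
  q.comap (Algebra.TensorProduct.includeLeftRingHom : B →+* BaseChange p A B)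

theorem comap_relFrob_primeBelow (q : PrimeSpectrum (BaseChange p A B)) :
    (primeBelow p A B q).comap (relFrob p A B) = q := by
  ext x
  change (relFrob p A B x) ⊗ₜ[A] (1 : Twist p A) ∈ q.asIdeal ↔ x ∈ q.asIdeal
  rw [← pow_eq]
  exact ⟨fun h => q.isPrime.mem_of_pow_mem p h,
    fun h => Ideal.pow_mem_of_mem _ h p hp.out.pos⟩

end Rank

section Rank2

variable (p : ℕ) [hp : Fact p.Prime] (A : Type u) [CommRing A] [CharP A p]
  (B : Type v) [CommRing B] [Algebra A B] [CharP B p]

/-- rank of the Kähler differentials of a standard smooth algebra. -/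
theorem finrank_kaehler_of_stdSmooth (C : Type w) [CommRing C] [Algebra A C] [Nontrivial C] (n : ℕ)
    [Algebra.IsStandardSmoothOfRelativeDimension n A C] :
    Module.finrank C (Ω[C⁄A]) = n := by
  have := Algebra.IsStandardSmoothOfRelativeDimension.rank_kaehlerDifferential (R := A) (S := C) n
  exact Module.finrank_eq_of_rank_eq this

theorem rankAtStalk_relFrob [Algebra.Smooth A B] (r : ℕ)
    (hr : ∀ q : PrimeSpectrum B, Module.rankAtStalk (R := B) (Ω[B⁄A]) q = r)
    (q : PrimeSpectrum (BaseChange p A B)) :
    Module.rankAtStalk (R := BaseChange p A B) (BT p A B) q = p ^ r := by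
  obtain ⟨s, hs, h⟩ := Algebra.Smooth.exists_span_eq_top_isStandardSmooth A B
  set q' := primeBelow p A B q with hq'
  have hqq' : q'.comap (relFrob p A B) = q := comap_relFrob_primeBelow p A B q
  -- pick `g ∈ s` outside `q'`
  obtain ⟨g, hgs, hgq⟩ : ∃ g ∈ s, g ∉ q'.asIdeal := by
    by_contra hcon
    push Not at hcon
    have : Ideal.span s ≤ q'.asIdeal := Ideal.span_le.mpr hcon
    rw [hs] at this
    exact q'.isPrime.ne_top (top_le_iff.mp this)
  haveI : Algebra.IsStandardSmooth A (Localization.Away g) := h g hgs
  -- a prime of the localization above `q'`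
  obtain ⟨q'', hq''⟩ : ∃ q'' : PrimeSpectrum (Localization.Away g),
      q''.comap (algebraMap B (Localization.Away g)) = q' := by
    have : q' ∈ Set.range (PrimeSpectrum.comap (algebraMap B (Localization.Away g))) := by
      rw [PrimeSpectrum.localization_away_comap_range (Localization.Away g) g]
      exact hgq
    exact this
  haveI : Nontrivial (Localization.Away g) := q''.nontrivial
  haveI : CharP (Localization.Away g) p := charP_of_algebra p B (Localization.Away g)
  obtain ⟨n, hn, ⟨b⟩⟩ := exists_basis_of_isStandardSmooth p A (Localization.Away g)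
  -- `n = r`
  have hnr : n = r := by
    have h1 : Module.rankAtStalk (R := Localization.Away g) (Ω[Localization.Away g⁄A]) q'' =
        Module.rankAtStalk (R := B) (Ω[B⁄A]) (q''.comap (algebraMap B (Localization.Away g))) :=
      Module.rankAtStalk_isBaseChange
        (KaehlerDifferential.isBaseChange_of_formallyEtale A B (Localization.Away g)) q''
    rw [hr] at h1
    haveI : Algebra.IsStandardSmooth A (Localization.Away g) := h g hgs
    rw [Module.rankAtStalk_eq_finrank_of_free] at h1
    rw [← h1]
    exact (finrank_kaehler_of_stdSmooth A (Localization.Away g) n).symm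
  subst hnr
  -- the base change square
  letI : Algebra (BaseChange p A B) (BaseChange p A (Localization.Away g)) :=
    (twistMap p A B (Localization.Away g)).toRingHom.toAlgebra
  obtain ⟨m, t, f, hf⟩ := isBaseChange_of_etale p A B (Localization.Away g) (fun _ => rfl)
  haveI := flat_W_BT p A B
  haveI := finite_W_BT p A B
  let qt : PrimeSpectrum (BaseChange p A (Localization.Away g)) :=
    q''.comap (relFrob p A (Localization.Away g))
  have hqt : qt.comap (algebraMap (BaseChange p A B) (BaseChange p A (Localization.Away g))) = q := by
    rw [← hqq', ← hq'']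
    ext x
    change relFrob p A (Localization.Away g) (twistMap p A B (Localization.Away g) x) ∈ q''.asIdeal ↔
      algebraMap B (Localization.Away g) (relFrob p A B x) ∈ q''.asIdeal
    rw [relFrob_twistMap]
  have h2 := Module.rankAtStalk_isBaseChange hf qt
  rw [hqt] at h2
  rw [← h2]
  haveI : Module.Free (BaseChange p A (Localization.Away g)) (BT p A (Localization.Away g)) :=
    Module.Free.of_basis b
  haveI : Nontrivial (BaseChange p A (Localization.Away g)) := qt.nontrivial
  rw [Module.rankAtStalk_eq_finrank_of_free, Pi.natCast_apply, Nat.cast_id,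
    Module.finrank_eq_card_basis b, Fintype.card_fun, Fintype.card_fin, Fintype.card_fin]

end Rank2

end Groth.Agent.H8.RelFrob
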