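import Mathlib
import Groth.Prelude.Def_FrobAlg
import Groth.Agent.Lib.Helper8.RelFrob.Rank

set_option autoImplicit false
open scoped TensorProduct

namespace Groth.Agent.H8.RelFrob

universe u v w

open FrobAlg Module

section EtaleCrit

variable (R : Type u) (S : Type v) (T : Type w) [CommRing R] [CommRing S] [CommRing T]
  [Algebra R S] [Algebra R T] [Algebra S T] [IsScalarTower R S T]

/-- Jacobi–Zariski: if `H¹(L_{T/R}) = 0` and `T ⊗_S Ω_{S/R} → Ω_{T/R}` is bijective, then `T` is
formally étale over `S`. -/
theorem formallyEtale_of_bijective_mapBaseChange [Subsingleton (Algebra.H1Cotangent R T)]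
    (h : Function.Bijective (KaehlerDifferential.mapBaseChange R S T)) :
    Algebra.FormallyEtale S T := by
  refine ⟨⟨fun x y => ?_⟩, ⟨fun x y => ?_⟩⟩
  · have key : ∀ z : Ω[T⁄S], z = 0 := by
      intro z
      obtain ⟨y', rfl⟩ := KaehlerDifferential.map_surjective R S T z
      obtain ⟨w, rfl⟩ := h.2 y'
      exact (KaehlerDifferential.exact_mapBaseChange_map R S T _).mpr ⟨w, rfl⟩
    rw [key x, key y]
  · have key : ∀ z : Algebra.H1Cotangent S T, z = 0 := by
      intro z
      have h1 : Algebra.H1Cotangent.δ R S T z = 0 := by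
        apply h.1
        rw [map_zero]
        exact (Algebra.H1Cotangent.exact_δ_mapBaseChange R S T _).mpr ⟨z, rfl⟩
      obtain ⟨y', rfl⟩ := (Algebra.H1Cotangent.exact_map_δ R S T z).mp h1
      rw [Subsingleton.elim y' 0, map_zero]
    rw [key x, key y]

end EtaleCrit

section Coord

variable (R : Type u) [CommRing R] (A : Type v) [CommRing A] [Algebra R A]
  {n : ℕ} (t : Fin n → A) (b : Basis (Fin n) A (Ω[A⁄R]))
  (hb : ∀ i, b i = KaehlerDifferential.D R A (t i))

/-- the algebra structure of `A` over the polynomial ring given by coordinates `t`. -/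
@[reducible] noncomputable def coordAlgebra : Algebra (MvPolynomial (Fin n) R) A :=
  (MvPolynomial.aeval t : MvPolynomial (Fin n) R →ₐ[R] A).toRingHom.toAlgebra

theorem coordAlgebra_algebraMap (F : MvPolynomial (Fin n) R) :
    letI := coordAlgebra R A t
    algebraMap (MvPolynomial (Fin n) R) A F = MvPolynomial.aeval t F := rfl

theorem coordAlgebra_tower :
    letI := coordAlgebra R A t
    IsScalarTower R (MvPolynomial (Fin n) R) A := by
  letI := coordAlgebra R A t
  refine IsScalarTower.of_algebraMap_eq (fun r => ?_)
  rw [coordAlgebra_algebraMap, MvPolynomial.algebraMap_eq, MvPolynomial.aeval_C]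

include hb in
theorem bijective_mapBaseChange_coord :
    letI := coordAlgebra R A t
    haveI := coordAlgebra_tower R A t
    Function.Bijective (KaehlerDifferential.mapBaseChange R (MvPolynomial (Fin n) R) A) := by
  letI := coordAlgebra R A t
  haveI := coordAlgebra_tower R A t
  let b₁ : Basis (Fin n) A (A ⊗[MvPolynomial (Fin n) R] Ω[MvPolynomial (Fin n) R⁄R]) :=
    Algebra.TensorProduct.basis A (KaehlerDifferential.mvPolynomialBasis R (Fin n))
  have h : KaehlerDifferential.mapBaseChange R (MvPolynomial (Fin n) R) A =
      (b₁.equiv b (Equiv.refl _)).toLinearMap := by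
    apply b₁.ext
    intro i
    rw [LinearEquiv.coe_coe, Basis.equiv_apply, Equiv.refl_apply, hb,
      Algebra.TensorProduct.basis_apply, KaehlerDifferential.mvPolynomialBasis_apply,
      KaehlerDifferential.mapBaseChange_tmul, one_smul, KaehlerDifferential.map_D,
      coordAlgebra_algebraMap, MvPolynomial.aeval_X]
  rw [h]
  exact (b₁.equiv b (Equiv.refl _)).bijective

include hb in
/-- étale coordinates: if `dt_i` is a basis of `Ω_{A/R}` and `A` is smooth over `R`, then `A` is
étale over `R[T_1,…,T_n]`. -/
theorem etale_coord [Algebra.Smooth R A] :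
    letI := coordAlgebra R A t
    Algebra.Etale (MvPolynomial (Fin n) R) A := by
  letI := coordAlgebra R A t
  haveI := coordAlgebra_tower R A t
  haveI : Algebra.FormallyEtale (MvPolynomial (Fin n) R) A :=
    formallyEtale_of_bijective_mapBaseChange R (MvPolynomial (Fin n) R) A
      (bijective_mapBaseChange_coord R A t b hb)
  haveI : Algebra.FinitePresentation (MvPolynomial (Fin n) R) A :=
    Algebra.FinitePresentation.of_restrict_scalars_finitePresentation R (MvPolynomial (Fin n) R) A
  exact ⟨inferInstance, inferInstance⟩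

end Coord

end Groth.Agent.H8.RelFrob
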