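import Mathlib
import Groth.Prelude.Def_FrobAlg
import Groth.Agent.Lib.Helper8.RelFrob.PBasis
import Groth.Agent.Lib.Helper8.RelFrob.JacDiag

set_option autoImplicit false
open scoped TensorProduct

namespace Groth.Agent.H8.RelFrob

universe u v w

open FrobAlg Module MvPolynomial

section FrobJac

variable (p : ℕ) [hp : Fact p.Prime] (k : Type u) [CommRing k] [CharP k p]
  (A : Type v) [CommRing A] [Algebra k A] [CharP A p]
  {n : ℕ} (t : Fin n → A)

/-- evaluation of polynomials over the Frobenius twist at the coordinates `t`. -/
noncomputable def evT : MvPolynomial (Fin n) (BaseChange p k A) →ₐ[BaseChange p k A] BT p k A :=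
  MvPolynomial.aeval (fun i => toBT p k A (t i))

/-- the exponent vector of `e : Fin n → Fin p`. -/
noncomputable def hatE (e : Fin n → Fin p) : Fin n →₀ ℕ :=
  Finsupp.equivFunOnFinite.symm (fun i => ((e i : Fin p) : ℕ))

theorem evT_monomial_eq (a : Fin n →₀ ℕ) :
    evT p k A t (monomial a 1) =
      toBT p k A (MvPolynomial.aeval t (monomial a (1 : k))) := by
  rw [evT, aeval_monomial, aeval_monomial, map_one, map_one, one_mul, one_mul, map_finsuppProd]
  simp only [map_pow]

/-- decomposition of a monomial in the coordinates along the `p`-basis. -/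
theorem evT_monomial_decomp (e : Fin n → Fin p) (m : Fin n →₀ ℕ) (r : BaseChange p k A) :
    evT p k A t (monomial (p • m + hatE p e) r) =
      (r * iota p k A (evT p k A t (monomial m 1))) • evT p k A t (monomial (hatE p e) 1) := by
  have h1 : (monomial (p • m + hatE p e) r : MvPolynomial (Fin n) (BaseChange p k A)) =
      C r * (monomial m 1) ^ p * monomial (hatE p e) 1 := by
    rw [monomial_pow, one_pow, C_mul_monomial, monomial_mul, mul_one, mul_one]
  rw [h1, map_mul, map_mul, map_pow, ← algebraMap_iota, evT, aeval_C, ← map_mul,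
    Algebra.smul_def]

section WithBasis

variable [Algebra.Smooth k A] (b : Basis (Fin n) A (Ω[A⁄k]))
  (hb : ∀ i, b i = KaehlerDifferential.D k A (t i))

include b hb in
/-- **The `p`-basis.** If `dt_i` is a basis of `Ω_{A/k}` (with `A` smooth over `k`), then the
monomials `t^e`, `e ∈ [0,p)^n`, form a basis of `A` over its Frobenius twist. -/
theorem exists_pBasis : ∃ β : Basis (Fin n → Fin p) (BaseChange p k A) (BT p k A),
    ∀ e, β e = evT p k A t (monomial (hatE p e) 1) := by
  letI := coordAlgebra k A t
  haveI := coordAlgebra_tower k A t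
  haveI := etale_coord k A t b hb
  obtain ⟨β, hβ⟩ := exists_basis_of_etale' p k (MvPolynomial (Fin n) k) A (basisPoly p k (Fin n))
  refine ⟨β, fun e => ?_⟩
  rw [hβ, basisPoly_apply, vec, RingEquiv.symm_apply_apply, coordAlgebra_algebraMap,
    evT_monomial_eq]
  rfl

end WithBasis

section Coord

variable (β : Basis (Fin n → Fin p) (BaseChange p k A) (BT p k A))
  (hβ : ∀ e, β e = evT p k A t (monomial (hatE p e) 1))

/-- the top index `(p-1,…,p-1)`. -/
def topE (n : ℕ) : Fin n → Fin p := fun _ => ⟨p - 1, Nat.sub_lt hp.out.pos Nat.one_pos⟩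

include hβ in
theorem coord_evT_monomial (e : Fin n → Fin p) (m : Fin n →₀ ℕ) (r : BaseChange p k A) :
    β.coord (topE p n) (evT p k A t (monomial (p • m + hatE p e) r)) =
      if e = topE p n then r * iota p k A (evT p k A t (monomial m 1)) else 0 := by
  classical
  rw [evT_monomial_decomp, ← hβ, map_smul, Basis.coord_apply, Basis.repr_self,
    Finsupp.single_apply, smul_eq_mul, mul_ite, mul_one, mul_zero]

include hβ in
/-- the top coordinate of a monomial in the `t_i` vanishes unless all exponents are `≡ -1 mod p`. -/
theorem coord_evT_monomial_of_not_dvd (a : Fin n →₀ ℕ) (r : BaseChange p k A)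
    (ha : ¬ ∀ j, p ∣ a j + 1) :
    β.coord (topE p n) (evT p k A t (monomial a r)) = 0 := by
  obtain ⟨⟨e, m⟩, rfl⟩ := (tau p (Fin n)).surjective a
  rw [tau_apply]
  change β.coord (topE p n) (evT p k A t (monomial (p • m + hatE p e) r)) = 0
  rw [coord_evT_monomial p k A t β hβ, if_neg]
  rintro rfl
  apply ha
  intro j
  rw [tau_apply]
  simp only [Finsupp.coe_add, Finsupp.coe_smul, Pi.add_apply, Pi.smul_apply, smul_eq_mul,
    Finsupp.coe_equivFunOnFinite_symm, topE]
  have hp1 : 1 ≤ p := hp.out.one_le
  refine ⟨m j + 1, ?_⟩
  rw [mul_add, mul_one]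
  omega

include hβ in
theorem coord_evT_monomial_top (r : BaseChange p k A) :
    β.coord (topE p n) (evT p k A t (monomial (muTop p n) r)) = r := by
  have h : muTop p n = p • (0 : Fin n →₀ ℕ) + hatE p (topE p n) := by
    rw [smul_zero, zero_add]
    rfl
  rw [h, coord_evT_monomial p k A t β hβ, if_pos rfl]
  have : (monomial (0 : Fin n →₀ ℕ) (1 : BaseChange p k A)) = 1 := rfl
  rw [this, map_one, map_one, mul_one]

end Coord

section Deriv

variable (b : Basis (Fin n) A (Ω[A⁄k]))

/-- the partial derivatives dual to the basis `b` of the Kähler differentials. -/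
noncomputable def dj (j : Fin n) : Derivation k A A :=
  (b.coord j).compDer (KaehlerDifferential.D k A)

theorem dj_apply (j : Fin n) (x : A) :
    dj k A b j x = b.coord j (KaehlerDifferential.D k A x) := rfl

theorem dj_relFrob (j : Fin n) (w : BaseChange p k A) : dj k A b j (relFrob p k A w) = 0 := by
  induction w using TensorProduct.induction_on with
  | zero => rw [map_zero, map_zero]
  | tmul x c =>
    rw [relFrob_tmul, Derivation.leibniz, Derivation.map_algebraMap, smul_zero, zero_add,
      Derivation.leibniz_pow, nsmul_eq_mul, CharP.cast_eq_zero, zero_mul, smul_zero]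
  | add x y hx hy => rw [map_add, map_add, hx, hy, add_zero]

variable (hb : ∀ i, b i = KaehlerDifferential.D k A (t i))

include hb in
theorem dj_t (i j : Fin n) : dj k A b j (t i) = if i = j then 1 else 0 := by
  classical
  rw [dj_apply, ← hb, Basis.coord_apply, Basis.repr_self, Finsupp.single_apply]

include hb in
theorem dj_evT (j : Fin n) (G : MvPolynomial (Fin n) (BaseChange p k A)) :
    dj k A b j ((toBT p k A).symm (evT p k A t G)) =
      (toBT p k A).symm (evT p k A t (pderiv j G)) := by
  classical
  induction G using MvPolynomial.induction_on with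
  | C r =>
    rw [pderiv_C, map_zero, map_zero, evT, aeval_C]
    exact dj_relFrob p k A b j r
  | add F G hF hG => rw [map_add, map_add, map_add, hF, hG, map_add, map_add, map_add]
  | mul_X G i hG =>
    rw [map_mul, map_mul, Derivation.leibniz, hG, Derivation.leibniz, map_add, map_add,
      pderiv_X, smul_eq_mul, smul_eq_mul, smul_eq_mul, smul_eq_mul, map_mul, map_mul, map_mul,
      map_mul]
    have hX : (toBT p k A).symm (evT p k A t (X i)) = t i := by
      rw [evT, aeval_X, RingEquiv.symm_apply_apply]
    rw [hX, dj_t k A t b hb i j]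
    have h2 : (toBT p k A).symm (evT p k A t
        ((Pi.single j 1 : Fin n → MvPolynomial (Fin n) (BaseChange p k A)) i)) =
        if i = j then 1 else 0 := by
      by_cases h : i = j
      · subst h
        rw [Pi.single_eq_same, map_one, map_one, if_pos rfl]
      · rw [Pi.single_eq_of_ne h, map_zero, map_zero, if_neg h]
    rw [h2]

end Deriv

section Main

variable [Algebra.Smooth k A] (b : Basis (Fin n) A (Ω[A⁄k]))
  (hb : ∀ i, b i = KaehlerDifferential.D k A (t i))

theorem evT_monomial_smul (a : Fin n →₀ ℕ) (r : BaseChange p k A) :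
    evT p k A t (monomial a r) = r • evT p k A t (monomial a 1) := by
  have : (monomial a r : MvPolynomial (Fin n) (BaseChange p k A)) = r • monomial a 1 := by
    rw [smul_monomial, smul_eq_mul, mul_one]
  rw [this, map_smul]

include b hb in
/-- **Nonvanishing of the Frobenius-lift Jacobian.** If `dt_i` is a basis of `Ω_{A/k}`, `A` smooth
over `k` of characteristic `p`, then for arbitrary `f_i ∈ A` the matrix
`δ_ij t_i^{p-1} + ∂f_i/∂t_j` has nonzero determinant. -/
theorem det_diag_add_jacobian_ne_zero (f : Fin n → A) :
    (Matrix.of fun i j : Fin n =>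
      (if i = j then t i ^ (p - 1) else 0) +
        b.coord j (KaehlerDifferential.D k A (f i))).det ≠ 0 := by
  classical
  obtain ⟨β, hβ⟩ := exists_pBasis p k A t b hb
  haveI : Nontrivial A := CharP.nontrivial_of_char_ne_one (R := A) (hp.out.ne_one)
  haveI : Nontrivial (BaseChange p k A) := (relFrob p k A).domain_nontrivial
  haveI : CharP (BaseChange p k A) p :=
    (CharP.charP_iff_prime_eq_zero hp.out).mpr (natCast_eq_zero p k A)
  -- lift the `f_i` to polynomials
  let F : Fin n → MvPolynomial (Fin n) (BaseChange p k A) := fun i =>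
    ∑ e : Fin n → Fin p, monomial (hatE p e) (β.repr (toBT p k A (f i)) e)
  have hF : ∀ i, evT p k A t (F i) = toBT p k A (f i) := by
    intro i
    simp only [F, map_sum]
    rw [Finset.sum_congr rfl (fun e _ => evT_monomial_smul p k A t (hatE p e) _)]
    simp only [← hβ]
    exact β.sum_repr _
  let Mt : Matrix (Fin n) (Fin n) (MvPolynomial (Fin n) (BaseChange p k A)) :=
    Matrix.of fun i j : Fin n => (if i = j then X i ^ (p - 1) else 0) + pderiv j (F i)
  set M : Matrix (Fin n) (Fin n) A := Matrix.of fun i j : Fin n =>
      (if i = j then t i ^ (p - 1) else 0) +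
        b.coord j (KaehlerDifferential.D k A (f i)) with hMdef
  have hM : (evT p k A t).toRingHom.mapMatrix Mt = (toBT p k A : A →+* BT p k A).mapMatrix M := by
    ext i j
    simp only [RingHom.mapMatrix_apply, Matrix.map_apply, Mt, M, Matrix.of_apply, map_add]
    congr 1
    · by_cases h : i = j
      · subst h
        rw [if_pos rfl, if_pos rfl]
        simp only [AlgHom.toRingHom_eq_coe, RingHom.coe_coe, map_pow, evT, aeval_X]
      · rw [if_neg h, if_neg h, map_zero, map_zero]
    · have := dj_evT p k A t b hb j (F i)
      rw [hF, RingEquiv.symm_apply_apply, dj_apply] at this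
      rw [this]
      exact ((toBT p k A).apply_symm_apply _).symm
  have hdet : evT p k A t Mt.det = toBT p k A M.det := by
    have h1 := RingHom.map_det (evT p k A t).toRingHom Mt
    have h2 := RingHom.map_det (toBT p k A : A →+* BT p k A) M
    rw [hM] at h1
    exact h1.trans h2.symm
  -- the top coordinate of `evT (det Mt)` is `1`
  have hcoef : ∀ a : Fin n →₀ ℕ,
      β.coord (topE p n) (evT p k A t (monomial a (coeff a Mt.det))) =
        if a = muTop p n then 1 else 0 := by
    intro a
    by_cases ha : ∀ j, p ∣ a j + 1
    · have hJ := coeff_det_diag_add_jacobian p (BaseChange p k A) F a ha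
      change coeff a Mt.det = _ at hJ
      rw [hJ]
      by_cases h : a = muTop p n
      · rw [if_pos h, h, coord_evT_monomial_top p k A t β hβ]
      · rw [if_neg h, monomial_zero, map_zero, map_zero]
    · rw [coord_evT_monomial_of_not_dvd p k A t β hβ a _ ha, if_neg]
      rintro rfl
      apply ha
      intro j
      simp only [muTop, Finsupp.coe_equivFunOnFinite_symm]
      have hp1 : 1 ≤ p := hp.out.one_le
      exact ⟨1, by omega⟩
  have hone : β.coord (topE p n) (evT p k A t Mt.det) = 1 := by
    conv_lhs => rw [MvPolynomial.as_sum Mt.det]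
    rw [map_sum, map_sum, Finset.sum_congr rfl (fun a _ => hcoef a), Finset.sum_ite_eq',
      if_pos]
    rw [MvPolynomial.mem_support_iff]
    have hJ := coeff_det_diag_add_jacobian p (BaseChange p k A) F (muTop p n) (by
      intro j
      simp only [muTop, Finsupp.coe_equivFunOnFinite_symm]
      have hp1 : 1 ≤ p := hp.out.one_le
      exact ⟨1, by omega⟩)
    change coeff (muTop p n) Mt.det = _ at hJ
    rw [hJ, if_pos rfl]
    exact one_ne_zero
  intro h0
  rw [h0, map_zero] at hdet
  rw [hdet, map_zero] at hone
  exact zero_ne_one hone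

end Main

end FrobJac

end Groth.Agent.H8.RelFrob
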